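import Mathlib
import Groth.Agent.DimFormula.Field

/-!
# The variety of nilpotent matrices
-/

set_option autoImplicit false
universe u

namespace Groth.Agent.Nilp

open Polynomial

variable {k : Type u} [Field k] {n : ℕ}

theorem exists_basis_strict (f : (Fin n → k) →ₗ[k] (Fin n → k)) (hf : IsNilpotent f) :
    ∀ m, m ≤ n → ∃ v : Fin m → (Fin n → k), LinearIndependent k v ∧
      ∀ j, f (v j) ∈ Submodule.span k (v '' {i | i < j}) := by
  intro m
  induction m with
  | zero => exact fun _ => ⟨Fin.elim0, linearIndependent_empty_type, fun j => j.elim0⟩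
  | succ m ih =>
    intro hm
    obtain ⟨v, hli, hv⟩ := ih (by omega)
    set W := Submodule.span k (Set.range v) with hW
    have hfW : ∀ x ∈ W, f x ∈ W := by
      intro x hx
      induction hx using Submodule.span_induction with
      | mem x hx =>
        obtain ⟨j, rfl⟩ := hx
        exact Submodule.span_mono (Set.image_subset_range _ _) (hv j)
      | zero => simp
      | add x y _ _ hx hy => rw [map_add]; exact add_mem hx hy
      | smul c x _ hx => rw [map_smul]; exact Submodule.smul_mem _ c hx
    have hWtop : W ≠ ⊤ := by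
      intro h
      have := finrank_span_eq_card hli
      rw [← hW, h, finrank_top, Module.finrank_fin_fun, Fintype.card_fin] at this
      omega
    obtain ⟨y, hy⟩ : ∃ y, y ∉ W := by
      by_contra hcon
      push Not at hcon
      exact hWtop (Submodule.eq_top_iff'.2 hcon)
    obtain ⟨N, hN⟩ := hf
    classical
    have hex : ∃ t, (f ^ t) y ∈ W := ⟨N, by rw [hN]; simp⟩
    set t := Nat.find hex
    have ht0 : t ≠ 0 := fun h => hy (by simpa [t, h] using Nat.find_spec hex)
    obtain ⟨t', ht'⟩ : ∃ t', t = t' + 1 := ⟨t - 1, by omega⟩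
    have hx : (f ^ t') y ∉ W := Nat.find_min hex (by omega)
    have hfx : f ((f ^ t') y) ∈ W := by
      have := Nat.find_spec hex
      change (f ^ t) y ∈ W at this
      rwa [ht', pow_succ'] at this
    refine ⟨Fin.snoc v ((f ^ t') y), hli.finSnoc hx, fun j => ?_⟩
    refine Fin.lastCases ?_ (fun j => ?_) j
    · rw [Fin.snoc_last]
      refine Submodule.span_mono ?_ hfx
      rintro _ ⟨i, rfl⟩
      exact ⟨i.castSucc, Fin.castSucc_lt_last i, Fin.snoc_castSucc _ _ _⟩
    · rw [Fin.snoc_castSucc]
      refine Submodule.span_mono ?_ (hv j)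
      rintro _ ⟨i, hi, rfl⟩
      exact ⟨i.castSucc, Fin.castSucc_lt_castSucc_iff.2 hi, Fin.snoc_castSucc _ _ _⟩

theorem exists_triangular (M : Matrix (Fin n) (Fin n) k) (hM : IsNilpotent M) :
    ∃ g U : Matrix (Fin n) (Fin n) k, g.det ≠ 0 ∧ (∀ i j, j ≤ i → U i j = 0) ∧ M * g = g * U := by
  classical
  obtain ⟨v, hli, hv⟩ := exists_basis_strict (Matrix.toLinAlgEquiv' M) (hM.map Matrix.toLinAlgEquiv') n le_rfl
  let g : Matrix (Fin n) (Fin n) k := Matrix.of fun i j => v j i
  have hg : IsUnit g := by
    rw [← Matrix.linearIndependent_cols_iff_isUnit]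
    exact hli
  have hgd : IsUnit g.det := (Matrix.isUnit_iff_isUnit_det g).1 hg
  refine ⟨g, g⁻¹ * M * g, hgd.ne_zero, fun i j hij => ?_, ?_⟩
  · have h1 : (g⁻¹ * M * g) i j = (g⁻¹.mulVec (M.mulVec (v j))) i := by
      rw [Matrix.mulVec_mulVec]
      simp [Matrix.mul_apply, Matrix.mulVec, dotProduct, g]
    rw [h1]
    have h2 : M.mulVec (v j) ∈ Submodule.span k (v '' {l | l < j}) := by simpa using hv j
    have hker : Submodule.span k (v '' {l | l < j}) ≤
        LinearMap.ker ((LinearMap.proj i).comp (Matrix.mulVecLin g⁻¹)) := by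
      rw [Submodule.span_le]
      rintro _ ⟨l, hl, rfl⟩
      show (g⁻¹.mulVec (v l)) i = 0
      have h3 : v l = g.mulVec (Pi.single l 1) := by funext a; simp [g]
      rw [h3, Matrix.mulVec_mulVec, Matrix.nonsing_inv_mul g hgd, Matrix.one_mulVec]
      exact Pi.single_eq_of_ne (by rintro rfl; exact absurd hij (not_le.2 hl)) _
    exact hker h2
  · rw [← mul_assoc, ← mul_assoc, Matrix.mul_nonsing_inv g hgd, one_mul]

theorem charpoly_eq_X_pow (M : Matrix (Fin n) (Fin n) k) (h : ∀ i : Fin n, M.charpoly.coeff i = 0) :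
    M.charpoly = X ^ n := by
  ext m
  rw [coeff_X_pow]
  rcases lt_trichotomy m n with hm | rfl | hm
  · rw [if_neg hm.ne, h ⟨m, hm⟩]
  · rw [if_pos rfl]
    have := M.charpoly_monic.coeff_natDegree
    rwa [Matrix.charpoly_natDegree_eq_dim, Fintype.card_fin] at this
  · rw [if_neg hm.ne']
    exact coeff_eq_zero_of_natDegree_lt (by rwa [Matrix.charpoly_natDegree_eq_dim, Fintype.card_fin])

variable (k n) in
/-- The generic matrix. -/
noncomputable abbrev gen : Matrix (Fin n) (Fin n) (MvPolynomial (Fin n × Fin n) k) :=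
  Matrix.mvPolynomialX (Fin n) (Fin n) k

variable (k n) in
/-- The parameters: a matrix and a strictly triangular one. -/
abbrev Base : Type u := MvPolynomial ((Fin n × Fin n) ⊕ (Fin n × Fin n)) k

/-- The generic invertible matrix. -/
noncomputable def gG : Matrix (Fin n) (Fin n) (Base k n) := Matrix.of fun i j => MvPolynomial.X (Sum.inl (i, j))

/-- The generic strictly upper triangular matrix. -/
noncomputable def gU : Matrix (Fin n) (Fin n) (Base k n) :=
  Matrix.of fun i j => if i < j then MvPolynomial.X (Sum.inr (i, j)) else 0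

theorem exists_prime [IsAlgClosed k] :
    ∃ P : Ideal (MvPolynomial (Fin n × Fin n) k), P.IsPrime ∧
      (Ideal.span (Set.range fun i : Fin n => (gen k n).charpoly.coeff i)).radical = P := by
  classical
  set I := Ideal.span (Set.range fun i : Fin n => (gen k n).charpoly.coeff i) with hI
  have hdet : (gG : Matrix (Fin n) (Fin n) (Base k n)).det ≠ 0 := by
    intro h
    have h2 := congrArg (MvPolynomial.eval (Sum.elim (fun p => if p.1 = p.2 then (1 : k) else 0) (fun _ => 0))) h
    rw [RingHom.map_det, map_zero] at h2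
    have : (MvPolynomial.eval (Sum.elim (fun p : Fin n × Fin n => if p.1 = p.2 then (1 : k) else 0) (fun _ => 0))).mapMatrix
        (gG : Matrix (Fin n) (Fin n) (Base k n)) = 1 := by
      ext i j; simp [gG, Matrix.one_apply]
    rw [this, Matrix.det_one] at h2
    exact one_ne_zero h2
  let L := Localization.Away (gG : Matrix (Fin n) (Fin n) (Base k n)).det
  haveI : IsDomain L := IsLocalization.isDomain_localization (powers_le_nonZeroDivisors_of_noZeroDivisors hdet)
  let G : Matrix (Fin n) (Fin n) L := (algebraMap (Base k n) L).mapMatrix gG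
  let U : Matrix (Fin n) (Fin n) L := (algebraMap (Base k n) L).mapMatrix gU
  have hGd : IsUnit G.det := by
    rw [← RingHom.map_det]
    exact IsLocalization.Away.algebraMap_isUnit _
  let N : Matrix (Fin n) (Fin n) L := G * U * G⁻¹
  let φ : MvPolynomial (Fin n × Fin n) k →ₐ[k] L := MvPolynomial.aeval fun p => N p.1 p.2
  have hφN : φ.toRingHom.mapMatrix (gen k n) = N := by
    ext i j; simp [φ]
  have hchar : N.charpoly = X ^ n := by
    obtain ⟨Gu, hGu⟩ := (Matrix.isUnit_iff_isUnit_det G).2 hGd
    have : N = Gu.val * U * Gu.val⁻¹ := by rw [hGu]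
    rw [this]
    erw [Matrix.charpoly_units_conj]
    have hU : U.IsUpperTriangular := by
      intro i j hij
      have : ¬ i < j := not_lt.2 (le_of_lt hij)
      simp [U, gU, this]
    rw [Matrix.charpoly_of_isUpperTriangular U hU]
    simp [U, gU]
  have hIP : I ≤ RingHom.ker φ := by
    rw [hI, Ideal.span_le]
    rintro _ ⟨i, rfl⟩
    rw [SetLike.mem_coe, RingHom.mem_ker]
    show φ.toRingHom _ = 0
    rw [← Polynomial.coeff_map, ← Matrix.charpoly_map, ← RingHom.mapMatrix_apply, hφN, hchar, coeff_X_pow,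
      if_neg i.2.ne]
  refine ⟨RingHom.ker φ, RingHom.ker_isPrime _,
    le_antisymm ((Ideal.IsPrime.radical_le_iff (RingHom.ker_isPrime _)).2 hIP) fun f hf => ?_⟩
  rw [← MvPolynomial.vanishingIdeal_zeroLocus_eq_radical (K := k), MvPolynomial.mem_vanishingIdeal_iff]
  intro x hx
  rw [MvPolynomial.mem_zeroLocus_iff] at hx
  let M : Matrix (Fin n) (Fin n) k := Matrix.of fun i j => x (i, j)
  have hMev : (MvPolynomial.eval x).mapMatrix (gen k n) = M := by
    ext i j; simp [M]
  have hMc : M.charpoly = X ^ n := charpoly_eq_X_pow M fun i => by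
    have := hx _ (Ideal.subset_span ⟨i, rfl⟩)
    rw [← hMev, RingHom.mapMatrix_apply, Matrix.charpoly_map, Polynomial.coeff_map]
    simpa [MvPolynomial.aeval_eq_eval] using this
  have hMn : IsNilpotent M := ⟨n, by
    have := Matrix.aeval_self_charpoly M
    rwa [hMc, map_pow, aeval_X] at this⟩
  obtain ⟨g, V, hg, hV, hMg⟩ := exists_triangular M hMn
  let ev : Base k n →+* k := MvPolynomial.eval (Sum.elim (fun p => g p.1 p.2) (fun p => V p.1 p.2))
  have hevG : ev.mapMatrix gG = g := by ext i j; simp [ev, gG]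
  have hevU : ev.mapMatrix gU = V := by
    ext i j
    by_cases h : i < j
    · simp [ev, gU, h]
    · simp [ev, gU, h, hV i j (not_lt.1 h)]
  have hu : IsUnit (ev (gG : Matrix (Fin n) (Fin n) (Base k n)).det) := by
    rw [RingHom.map_det, hevG]; exact hg.isUnit
  let evL : L →+* k := IsLocalization.Away.lift _ hu
  have hevL : ∀ b, evL (algebraMap (Base k n) L b) = ev b := fun b => IsLocalization.Away.lift_eq _ hu b
  have hmapG : evL.mapMatrix G = g := by
    rw [← hevG]; ext i j; simp [G, hevL]
  have hmapU : evL.mapMatrix U = V := by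
    rw [← hevU]; ext i j; simp [U, hevL]
  have hmapN : evL.mapMatrix N = M := by
    have h1 : evL.mapMatrix N * g = M * g := by
      rw [hMg, ← hmapG, ← hmapU, ← map_mul, ← map_mul]
      congr 1
      rw [Matrix.mul_assoc, Matrix.nonsing_inv_mul G hGd, Matrix.mul_one]
    exact ((Matrix.isUnit_iff_isUnit_det g).2 hg.isUnit).mul_right_cancel h1
  have hcomp : evL.comp φ.toRingHom = MvPolynomial.eval x := by
    refine MvPolynomial.ringHom_ext (fun c => ?_) fun p => ?_
    · simp only [RingHom.comp_apply, MvPolynomial.eval_C]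
      show evL (φ (MvPolynomial.C c)) = c
      rw [MvPolynomial.aeval_C, IsScalarTower.algebraMap_apply k (Base k n) L, hevL]
      simp [ev]
    · have := congrFun (congrFun hmapN p.1) p.2
      simpa [φ, M] using this
  rw [MvPolynomial.aeval_eq_eval, ← hcomp, RingHom.comp_apply]
  rw [RingHom.mem_ker] at hf
  show evL (φ f) = 0
  rw [hf, map_zero]

theorem main [IsAlgClosed k] (hn : 1 ≤ n) (I : Ideal (MvPolynomial (Fin n × Fin n) k))
    (hI : I = Ideal.span (Set.range (fun i : Fin n =>
      (Matrix.charpoly (Matrix.mvPolynomialX (Fin n) (Fin n) k)).coeff (i : ℕ)))) :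
    IrreducibleSpace (PrimeSpectrum (MvPolynomial (Fin n × Fin n) k ⧸ I)) ∧
      ringKrullDim (MvPolynomial (Fin n × Fin n) k ⧸ I) = ((n ^ 2 - n : ℕ) : WithBot ℕ∞) := by
  classical
  obtain ⟨P, hP, hrad⟩ := exists_prime (k := k) (n := n)
  rw [← hI] at hrad
  haveI := hP
  refine ⟨?_, ?_⟩
  · rw [PrimeSpectrum.irreducibleSpace_iff_isPrime_nilradical]
    have hnil : nilradical (MvPolynomial (Fin n × Fin n) k ⧸ I) = P.map (Ideal.Quotient.mk I) := by
      rw [← hrad, nilradical, Ideal.map_radical_of_surjective Ideal.Quotient.mk_surjective (by rw [Ideal.mk_ker]),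
        Ideal.map_quotient_self]
      rfl
    rw [hnil]
    exact Ideal.map_isPrime_of_surjective Ideal.Quotient.mk_surjective (by rw [Ideal.mk_ker, ← hrad]; exact Ideal.le_radical)
  have hdimI : ringKrullDim (MvPolynomial (Fin n × Fin n) k ⧸ I) =
      ringKrullDim (MvPolynomial (Fin n × Fin n) k ⧸ P) := by
    rw [ringKrullDim_quotient, ringKrullDim_quotient, ← hrad, PrimeSpectrum.zeroLocus_radical]
  rw [hdimI]
  have hsum := DimFormula.height_add_ringKrullDim_quotient k (F := MvPolynomial (Fin n × Fin n) k) ⟨P, hP⟩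
  rw [MvPolynomial.ringKrullDim_of_isNoetherianRing, ringKrullDim_eq_zero_of_field, zero_add,
    Nat.card_eq_fintype_card, Fintype.card_prod, Fintype.card_fin] at hsum
  have hht : P.height ≤ n := by
    have hmin : P ∈ I.minimalPrimes := by
      refine ⟨⟨hP, hrad ▸ Ideal.le_radical⟩, fun Q hQ _ => ?_⟩
      rw [← hrad]
      exact hQ.1.radical_le_iff.2 hQ.2
    rw [hI] at hmin
    rw [show Set.range (fun i : Fin n => (Matrix.mvPolynomialX (Fin n) (Fin n) k).charpoly.coeff (i : ℕ)) =
      ↑(Finset.univ.image fun i : Fin n => (Matrix.mvPolynomialX (Fin n) (Fin n) k).charpoly.coeff (i : ℕ)) by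
        simp] at hmin
    refine (Ideal.height_le_card_of_mem_minimalPrimes_span_finset hmin).trans ?_
    exact Nat.cast_le.2 (Finset.card_image_le.trans (by simp))
  set F := MvPolynomial (Fin n × Fin n) k ⧸ P
  let π : MvPolynomial (Fin n × Fin n) k →+* F := Ideal.Quotient.mk P
  let Q : Ideal (MvPolynomial (Fin n × Fin n) k) := RingHom.ker (MvPolynomial.eval (0 : Fin n × Fin n → k))
  have hQmax : Q.IsMaximal := RingHom.ker_isMaximal_of_surjective _ fun c => ⟨MvPolynomial.C c, by simp⟩
  have hPQ : P ≤ Q := by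
    rw [← hrad, hQmax.isPrime.radical_le_iff, hI, Ideal.span_le]
    rintro _ ⟨i, rfl⟩
    show MvPolynomial.eval 0 _ = 0
    rw [← Polynomial.coeff_map, ← Matrix.charpoly_map]
    have : (Matrix.mvPolynomialX (Fin n) (Fin n) k).map (MvPolynomial.eval 0) = 0 := by ext a b; simp
    rw [this, Matrix.charpoly_zero, Fintype.card_fin, coeff_X_pow, if_neg i.2.ne]
  have hkerπ : RingHom.ker π ≤ Q := by rwa [Ideal.mk_ker]
  haveI hqmax : (Q.map π).IsMaximal := by
    refine (Ideal.map_eq_top_or_isMaximal_of_surjective π Ideal.Quotient.mk_surjective hQmax).resolve_left fun h => ?_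
    have := Ideal.comap_map_of_surjective π Ideal.Quotient.mk_surjective Q
    rw [h, Ideal.comap_top, ← RingHom.ker_eq_comap_bot, sup_eq_left.2 hkerπ] at this
    exact hQmax.ne_top this.symm
  let q : PrimeSpectrum F := ⟨Q.map π, hqmax.isPrime⟩
  have hF := DimFormula.height_add_ringKrullDim_quotient k (F := F) q
  have hfield : ringKrullDim (F ⧸ q.asIdeal) = 0 := by
    letI := @Ideal.Quotient.field F _ q.asIdeal hqmax
    exact ringKrullDim_eq_zero_of_field _
  rw [hfield, add_zero] at hF
  let off : Finset (Fin n × Fin n) := Finset.univ.filter fun p => p.1 ≠ p.2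
  let s : Finset F := off.image fun p => π (MvPolynomial.X p)
  have hscard : s.card ≤ n ^ 2 - n := by
    refine Finset.card_image_le.trans (le_of_eq ?_)
    have h := Finset.card_filter_add_card_filter_not (s := (Finset.univ : Finset (Fin n × Fin n))) (fun p => p.1 = p.2)
    rw [Finset.card_univ, Fintype.card_prod, Fintype.card_fin] at h
    have hd : (Finset.univ.filter fun p : Fin n × Fin n => p.1 = p.2).card = n := by
      rw [show (Finset.univ.filter fun p : Fin n × Fin n => p.1 = p.2) = Finset.univ.image (fun a : Fin n => (a, a)) by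
        ext ⟨a, b⟩; simp, Finset.card_image_of_injective _ fun a b h => (Prod.mk.inj h).1, Finset.card_univ, Fintype.card_fin]
    rw [hd] at h
    show (Finset.univ.filter fun p : Fin n × Fin n => ¬ p.1 = p.2).card = _
    rw [pow_two]
    omega
  have hsQ : (↑s : Set F) ⊆ q.asIdeal := by
    intro y hy
    simp only [s, Finset.coe_image, Set.mem_image] at hy
    obtain ⟨p, -, rfl⟩ := hy
    exact Ideal.mem_map_of_mem _ (by simp [Q])
  have hzero : ringKrullDim (F ⧸ Ideal.span (↑s : Set F)) ≤ 0 := by
    refine (Ring.krullDimLE_iff (n := 0)).1 ?_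
    refine Ring.KrullDimLE.mk₀ fun J hJ => ?_
    set J' := J.comap ((Ideal.Quotient.mk (Ideal.span (↑s : Set F))).comp π) with hJ'
    haveI : J'.IsPrime := Ideal.IsPrime.comap _
    have hoff : ∀ a b : Fin n, a ≠ b → (MvPolynomial.X (a, b) : MvPolynomial (Fin n × Fin n) k) ∈ J' := by
      intro a b hab
      have h0 : Ideal.Quotient.mk (Ideal.span (↑s : Set F)) (π (MvPolynomial.X (a, b))) = 0 :=
        Ideal.Quotient.eq_zero_iff_mem.2 (Ideal.subset_span (by
          simp only [s, Finset.coe_image, Set.mem_image]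
          exact ⟨(a, b), by simp [off, hab], rfl⟩))
      show Ideal.Quotient.mk _ (π _) ∈ J
      rw [h0]; exact J.zero_mem
    have hPJ : P ≤ J' := fun x hx => by
      show Ideal.Quotient.mk _ (π x) ∈ J
      rw [show π x = 0 from Ideal.Quotient.eq_zero_iff_mem.2 hx, map_zero]; exact J.zero_mem
    have hdiag : ∀ a : Fin n, (MvPolynomial.X (a, a) : MvPolynomial (Fin n × Fin n) k) ∈ J' := by
      intro a
      let ρ : MvPolynomial (Fin n × Fin n) k →+* MvPolynomial (Fin n × Fin n) k ⧸ J' := Ideal.Quotient.mk J'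
      have hD : ρ.mapMatrix (gen k n) = Matrix.diagonal fun b => ρ (MvPolynomial.X (b, b)) := by
        ext b c
        rcases eq_or_ne b c with rfl | hbc
        · simp
        · simp [Matrix.diagonal_apply_ne _ hbc, ρ, Ideal.Quotient.eq_zero_iff_mem, hoff b c hbc]
      have hc : (ρ.mapMatrix (gen k n)).charpoly = X ^ n := by
        ext m
        rw [coeff_X_pow]
        rcases lt_trichotomy m n with hm | rfl | hm
        · rw [if_neg hm.ne, RingHom.mapMatrix_apply, Matrix.charpoly_map, Polynomial.coeff_map]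
          refine Ideal.Quotient.eq_zero_iff_mem.2 (hPJ ?_)
          rw [← hrad, hI]
          exact Ideal.le_radical (Ideal.subset_span ⟨⟨m, hm⟩, rfl⟩)
        · rw [if_pos rfl]
          have := (ρ.mapMatrix (gen k m)).charpoly_monic.coeff_natDegree
          rwa [Matrix.charpoly_natDegree_eq_dim, Fintype.card_fin] at this
        · rw [if_neg hm.ne']
          exact coeff_eq_zero_of_natDegree_lt (by rwa [Matrix.charpoly_natDegree_eq_dim, Fintype.card_fin])
      rw [hD, Matrix.charpoly_diagonal] at hc
      have hev := congrArg (Polynomial.eval (ρ (MvPolynomial.X (a, a)))) hc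
      rw [eval_prod, Finset.prod_eq_zero (Finset.mem_univ a) (by simp), eval_pow, eval_X] at hev
      exact Ideal.Quotient.eq_zero_iff_mem.1 (eq_zero_of_pow_eq_zero hev.symm)
    have hQJ : Q ≤ J' := by
      intro x hx
      have hd : x - MvPolynomial.C (MvPolynomial.eval 0 x) ∈ J' := by
        clear hx
        induction x using MvPolynomial.induction_on with
        | C c => simp
        | add f g hf hg =>
          rw [map_add, map_add, add_sub_add_comm]
          exact add_mem hf hg
        | mul_X f p hf =>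
          rw [map_mul, MvPolynomial.eval_X, Pi.zero_apply, mul_zero, map_zero, sub_zero]
          refine J'.mul_mem_left f ?_
          rcases eq_or_ne p.1 p.2 with h | h
          · rw [show p = (p.1, p.1) from Prod.ext rfl h.symm]; exact hdiag _
          · exact hoff p.1 p.2 h
      rwa [show MvPolynomial.eval 0 x = 0 from hx, map_zero, sub_zero] at hd
    have hJ'max : J'.IsMaximal := hQmax.eq_of_le (Ideal.IsPrime.ne_top ‹_›) hQJ ▸ hQmax
    have hs : Function.Surjective ((Ideal.Quotient.mk (Ideal.span (↑s : Set F))).comp π) := by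
      rw [RingHom.coe_comp]
      exact Ideal.Quotient.mk_surjective.comp Ideal.Quotient.mk_surjective
    have := Ideal.map_eq_top_or_isMaximal_of_surjective _ hs hJ'max
    rw [hJ', Ideal.map_comap_of_surjective _ hs] at this
    exact this.resolve_left hJ.ne_top
  have hle : ringKrullDim F ≤ ((n ^ 2 - n : ℕ) : WithBot ℕ∞) := by
    rw [← hF]
    refine (Ideal.height_le_ringKrullDim_quotient_add_encard (↑s : Set F) hsQ).trans ?_
    refine (add_le_add hzero le_rfl).trans ?_
    rw [zero_add, Set.encard_coe_eq_coe_finsetCard]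
    exact WithBot.coe_le_coe.2 (Nat.cast_le.2 hscard)
  refine le_antisymm hle ?_
  obtain ⟨a, ha, -⟩ : ∃ a : ℕ, P.height = a ∧ a ≤ n := by
    obtain ⟨a, ha⟩ := ENat.ne_top_iff_exists.1 (hht.trans_lt (ENat.natCast_lt_top n)).ne
    exact ⟨a, ha.symm, by rw [← ha] at hht; exact_mod_cast hht⟩
  obtain ⟨c, hc⟩ : ∃ c : ℕ, ringKrullDim F = c := by
    obtain ⟨c, -, hc⟩ := DimFormula.exists_trdeg_eq_ringKrullDim k F
    exact ⟨c, hc⟩
  have h2 : ((a : WithBot ℕ∞)) + (c : WithBot ℕ∞) = ((n * n : ℕ) : WithBot ℕ∞) := by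
    rw [← hc, ← hsum]
    show _ = ((P.height : ℕ∞) : WithBot ℕ∞) + _
    rw [ha]
    rfl
  rw [hc]
  have h3 : a + c = n * n := by exact_mod_cast h2
  have h4 : a ≤ n := by rw [ha] at hht; exact_mod_cast hht
  exact_mod_cast (show n ^ 2 - n ≤ c by rw [pow_two]; omega)

end Groth.Agent.Nilp
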